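import Cfsg.Agent.H443.PiS.Tool
import Cfsg.Agent.H173.Rad2.HN
import Cfsg.Agent.H799.PiBS.AltFive

/-!
# `Inv3` for the Harada–Norton group (helper443, S3876)
-/

set_option autoImplicit false

namespace Cfsg.Agent.H443.PiS.HNRow

open Subgroup Cfsg Cfsg.Agent.H799.PiBS
open Cfsg.Agent.H173.RS Cfsg.Agent.H173.RS.HNRow Cfsg.Agent.H173.Rad2
open Cfsg.Agent.HN.Pres Cfsg.Agent.HN.H0Basic Cfsg.Agent.HN.XWords Cfsg.Agent.KFacts.HN

theorem simple_A5 : IsSimpleGroup KFacts.HN.A5 := alternatingGroup.isSimpleGroup (by simp)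

theorem φ2_injective : Function.Injective φ2 := by
  rintro ⟨a, b⟩ ⟨a', b'⟩ h
  obtain ⟨h1, h2⟩ := φ2_inj h
  exact Prod.ext h1 h2

/-- `A₅ × A₅ ≃ LL` -/
noncomputable def eLL : KFacts.HN.A5 × KFacts.HN.A5 ≃* LL := MonoidHom.ofInjective φ2_injective

/-- `MM → LL` -/
noncomputable def ρM : MM →* LL :=
  (ρ.comp (inclusion MM_le_PP)).codRestrict LL fun u => (mem_MM.1 u.2).2

theorem ρM_surj : Function.Surjective ρM := by
  rintro ⟨y, hy⟩
  obtain ⟨u, hu⟩ := ρ_surj y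
  have h1 : (u : Cfsg.Spor.HN) ∈ MM := mem_MM.2 ⟨u.2, by rw [Subtype.coe_eta, hu]; exact hy⟩
  exact ⟨⟨u, h1⟩, Subtype.ext hu⟩

theorem ρM_ker (u : MM) : ρM u = 1 ↔ (u : Cfsg.Spor.HN) ∈ RS := by
  constructor
  · intro h
    exact ⟨⟨u, MM_le_PP u.2⟩, MonoidHom.mem_ker.2 (congrArg Subtype.val h), rfl⟩
  · rintro ⟨v, hv, hvu⟩
    have e : v = ⟨u, MM_le_PP u.2⟩ := Subtype.ext hvu
    subst e
    exact Subtype.ext (MonoidHom.mem_ker.1 hv)

/-- `MM → A₅ × A₅` -/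
noncomputable def φ0 : MM →* KFacts.HN.A5 × KFacts.HN.A5 := eLL.symm.toMonoidHom.comp ρM

theorem φ0_surj : Function.Surjective φ0 := eLL.symm.surjective.comp ρM_surj

theorem φ0_ker (u : MM) : φ0 u = 1 ↔ (u : Cfsg.Spor.HN) ∈ RS := by
  rw [← ρM_ker]
  exact ⟨fun h => eLL.symm.injective (h.trans (map_one _).symm), fun h => by
    show eLL.symm (ρM u) = 1
    rw [h, map_one]⟩

theorem inv3_A5A5 : Inv3 (KFacts.HN.A5 × KFacts.HN.A5) :=
  inv3_prod simple_A5 (by rw [KFacts.HN.card_A5]; norm_num) inv3_alt5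

theorem center_A5A5 : center (KFacts.HN.A5 × KFacts.HN.A5) = ⊥ := by
  rw [eq_bot_iff]
  rintro ⟨a, b⟩ h
  rw [mem_center_iff] at h
  rw [mem_bot]
  refine Prod.ext (A5_center fun c => ?_) (A5_center fun c => ?_)
  · exact (congrArg Prod.fst (h (c, 1))).symm
  · exact (congrArg Prod.snd (h (1, c))).symm

theorem center_HN : center Cfsg.Spor.HN = ⊥ := by
  have hs := Cfsg.Agent.HN.Main.simple_HN
  rcases (inferInstance : (center Cfsg.Spor.HN).Normal).eq_bot_or_eq_top with h | h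
  · exact h
  · exfalso
    obtain ⟨P, -, a, -, b, -, hab⟩ := HNRow.exists_three
    exact hab (mem_center_iff.1 (h ▸ mem_top b : b ∈ center Cfsg.Spor.HN) a)

/-- the involutions of the class of `τ` -/
theorem bad_τ : Bad (MulAut.conj (Cfsg.Agent.HN.NormalH.ψ τ)) := by
  have h2 : Fact (Nat.Prime 2) := ⟨Nat.prime_two⟩
  obtain ⟨σ, hσ⟩ : ∃ σ : H173.RS.A5, orderOf σ = 2 := exists_prime_orderOf_dvd_card' 2 (by rw [H173.RS.card_A5]; norm_num)
  have ho : orderOf (f (e5 σ)) = 2 := by rw [orderOf_injective f f_inj, orderOf_injective e5 e5_injective, hσ]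
  have hconj : IsConj (f (e5 σ)) (Cfsg.Agent.HN.NormalH.ψ τ) := by
    rcases Cfsg.Agent.SigZeroHN.card_centralizer_cases ho with ⟨h, -⟩ | ⟨-, h⟩
    · exact h
    exfalso
    have h7 : 7 ∣ Nat.card (centralizer ({f (e5 σ)} : Set Cfsg.Spor.HN)) := by
      have h1 : u ∈ centralizer ({f (e5 σ)} : Set Cfsg.Spor.HN) := by
        rw [mem_centralizer_singleton_iff, u, ← map_mul, ← map_mul, c7_comm]
      have h8 : orderOf (⟨u, h1⟩ : centralizer ({f (e5 σ)} : Set Cfsg.Spor.HN)) = 7 := by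
        rw [Subgroup.orderOf_mk, orderOf_u]
      exact h8.symm.dvd.trans (orderOf_dvd_natCard (⟨u, h1⟩ : centralizer ({f (e5 σ)} : Set Cfsg.Spor.HN)))
    rw [h] at h7
    exact absurd h7 (by norm_num)
  have hc5 : center H173.RS.A5 = ⊥ := alternatingGroup.center_eq_bot (by simp)
  have h3 : Bad (MulAut.conj σ) := inv3_alt5 (MulAut.conj σ) (by rw [orderOf_injective _ (conj_inj hc5), hσ])
  exact (bad_hom (f := f.comp e5) (f_inj.comp e5_injective) h3).inner hconj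

theorem inv3_model : Inv3 Cfsg.Spor.HN := by
  have := finite_HN
  refine inv3_of_sheetE sheetE φ0 φ0_surj φ0_ker inv3_A5A5 center_HN fun r _ hrr hr1 => ?_
  have h2 : Fact (Nat.Prime 2) := ⟨Nat.prime_two⟩
  have ho : orderOf r = 2 := orderOf_eq_prime (by rw [pow_two, hrr]) hr1
  rcases Cfsg.Agent.SigZeroHN.card_centralizer_cases ho with ⟨h, -⟩ | ⟨h, -⟩
  · exact bad_τ.inner h.symm
  · exact (bad_z sheetE φ0 φ0_surj φ0_ker inv3_A5A5 center_A5A5).inner h.symm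

/-- **HN** -/
theorem _root_.Cfsg.Agent.H443.PiS.inv3_hn {K : Type*} [Group K] [Finite K] (h : Cfsg.Spor.IsoHN K) : Inv3 K :=
  h.elim fun e => Inv3.congr e inv3_model

end Cfsg.Agent.H443.PiS.HNRow
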