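import Cfsg.Agent.H799.PiBS.Inv3
import Cfsg.Agent.H173.Rad2.SheetE

/-!
# `Inv3`: products of two simple groups, groups with a sheet of type (E) (helper443, S3876)

* `Bad.of_cx`, `Bad.hom` : transport;
* `bad_or_inv` : an automorphism maps a normal simple subgroup of order divisible by 3 to itself or is bad;
* `inv3_prod` : `Inv3 (T × T)`;
* `inv3_of_sheetE` : a sheet of type (E) with `Inv3 (P / R)`.
-/

set_option autoImplicit false
set_option linter.unusedSectionVars false

namespace Cfsg.Agent.H443.PiS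

open Subgroup Cfsg Cfsg.Agent.H799.PiBS
open Cfsg.Agent.OddHalf.D8.Sheet Cfsg.Agent.H173.Rad2

universe u v

theorem bad_of_cx {K : Type u} [Group K] {x : MulAut K} {g : K} (h : Bad (H459.Gallery.cx x g)) : Bad x := by
  have h1 := h.conj (MulAut.conj g)
  have e : MulAut.conj g * H459.Gallery.cx x g * (MulAut.conj g)⁻¹ = x := by
    unfold H459.Gallery.cx
    group
  rwa [e] at h1

/-- in a subgroup isomorphic to a group with `Inv3` -/
theorem bad_hom {K : Type u} [Group K] {T : Type v} [Group T] {f : T →* K} (hf : Function.Injective f) {s : T}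
    (h : Bad (MulAut.conj s)) : Bad (MulAut.conj (f s)) := by
  obtain ⟨a, ha⟩ := h
  refine ⟨f a, ?_⟩
  rw [MulAut.conj_apply] at ha ⊢
  rw [← map_mul, ← map_inv, ← map_mul, ← map_inv, ← map_mul, orderOf_injective f hf]
  exact ha

section

variable {G : Type u} [Group G]

/-- a normal simple subgroup of order divisible by three is mapped to itself, or the automorphism is bad -/
theorem bad_or_inv [Finite G] (N : Subgroup G) [hN : N.Normal] (hs : IsSimpleGroup N) (h3 : 3 ∣ Nat.card N)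
    (x : MulAut G) : Bad x ∨ ∀ n ∈ N, x n ∈ N := by
  have : Fact (Nat.Prime 3) := ⟨Nat.prime_three⟩
  have hxN : (N.map (x : G →* G)).Normal := hN.map _ x.surjective
  -- the intersection
  have hI : ((N.map (x : G →* G)).subgroupOf N).Normal := inferInstance
  rcases hI.eq_bot_or_eq_top with h | h
  · left
    obtain ⟨a, ha⟩ := exists_prime_orderOf_dvd_card' 3 h3
    refine ⟨a, ?_⟩
    have hdisj : ∀ g : G, g ∈ N → g ∈ N.map (x : G →* G) → g = 1 := by
      intro g h1 h2
      have h4 : (⟨g, h1⟩ : N) ∈ (N.map (x : G →* G)).subgroupOf N := h2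
      rw [h, mem_bot] at h4
      exact congrArg Subtype.val h4
    have hcomm : Commute (x (a : G)) (a : G)⁻¹ := by
      have h5 : x (a : G) * (a : G)⁻¹ * (x (a : G))⁻¹ * ((a : G)⁻¹)⁻¹ = 1 := by
        apply hdisj
        · have h6 : x (a : G) * (a : G)⁻¹ * (x (a : G))⁻¹ ∈ N := hN.conj_mem _ (N.inv_mem a.2) _
          exact N.mul_mem h6 (N.inv_mem (N.inv_mem a.2))
        · have h6 : (x (a : G))⁻¹ ∈ N.map (x : G →* G) := inv_mem ⟨a, a.2, rfl⟩
          have h7 := hxN.conj_mem _ h6 (a : G)⁻¹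
          have e : x (a : G) * (a : G)⁻¹ * (x (a : G))⁻¹ * ((a : G)⁻¹)⁻¹ =
              x (a : G) * ((a : G)⁻¹ * (x (a : G))⁻¹ * ((a : G)⁻¹)⁻¹) := by group
          rw [e]
          exact mul_mem ⟨a, a.2, rfl⟩ h7
      have h8 := mul_inv_eq_one.1 h5
      exact mul_inv_eq_iff_eq_mul.1 h8
    have ho : orderOf (x (a : G) * (a : G)⁻¹) = 3 := by
      apply orderOf_eq_prime
      · rw [hcomm.mul_pow, ← map_pow, inv_pow]
        have h5 : (a : G) ^ 3 = 1 := by rw [← ha, ← Subgroup.orderOf_coe, pow_orderOf_eq_one]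
        rw [h5, map_one, inv_one, mul_one]
      · intro h5
        have h6 : x (a : G) = a := mul_inv_eq_one.1 h5
        have h7 : (a : G) = 1 := hdisj _ a.2 ⟨a, a.2, h6⟩
        rw [← Subgroup.orderOf_coe, h7, orderOf_one] at ha
        omega
    rw [ho]
  · right
    have h1 : N ≤ N.map (x : G →* G) := subgroupOf_eq_top.1 h
    have h2 : N = N.map (x : G →* G) := by
      apply Subgroup.eq_of_le_of_card_ge h1
      exact (Nat.card_congr (N.equivMapOfInjective (x : G →* G) x.injective).toEquiv).ge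
    intro n hn
    rw [h2]
    exact ⟨n, hn, rfl⟩

end

/-- **`Inv3` for the direct square of a simple group** -/
theorem inv3_prod {T : Type u} [Group T] [Finite T] (hs : IsSimpleGroup T) (h3 : 3 ∣ Nat.card T) (hT : Inv3 T) :
    Inv3 (T × T) := by
  intro x hx
  have hxx : x * x = 1 := by rw [← pow_two, ← hx, pow_orderOf_eq_one]
  have key : ∀ (N : Subgroup (T × T)) (_ : N.Normal) (e : N ≃* T), Bad x ∨ ∀ n ∈ N, x n = n := by
    intro N hN e
    have hsN : IsSimpleGroup N := by
      have := e.surjective.nontrivial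
      have h1 : Nontrivial N := e.toEquiv.nontrivial
      exact IsSimpleGroup.isSimpleGroup_of_surjective (e.symm : T →* N) e.symm.surjective
    have h3N : 3 ∣ Nat.card N := by rwa [Nat.card_congr e.toEquiv]
    rcases bad_or_inv N hsN h3N x with h | h
    · exact Or.inl h
    rcases eq_or_bad hxx h (e : N →* T) e.surjective (fun m hm => by
      have h1 : m = 1 := e.injective (hm.trans (map_one e).symm)
      subst h1
      have h2 : (⟨x ((1 : N) : T × T), h _ (1 : N).2⟩ : N) = 1 := Subtype.ext (map_one x)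
      show e _ = 1
      rw [h2, map_one]) hT with h1 | h1
    · exact Or.inl h1
    · right
      intro n hn
      exact congrArg Subtype.val (e.injective (h1 ⟨n, hn⟩))
  let N1 : Subgroup (T × T) := (MonoidHom.inl T T).range
  let N2 : Subgroup (T × T) := (MonoidHom.inr T T).range
  have e1 : N1 ≃* T := (MonoidHom.ofInjective (f := MonoidHom.inl T T) (fun a b h => congrArg Prod.fst h)).symm
  have e2 : N2 ≃* T := (MonoidHom.ofInjective (f := MonoidHom.inr T T) (fun a b h => congrArg Prod.snd h)).symm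
  have n1 : N1.Normal := by
    refine ⟨?_⟩
    rintro _ ⟨a, rfl⟩ ⟨b, c⟩
    exact ⟨b * a * b⁻¹, by simp⟩
  have n2 : N2.Normal := by
    refine ⟨?_⟩
    rintro _ ⟨a, rfl⟩ ⟨b, c⟩
    exact ⟨c * a * c⁻¹, by simp⟩
  rcases key N1 n1 e1 with h1 | h1
  · exact h1
  rcases key N2 n2 e2 with h2 | h2
  · exact h2
  exfalso
  have h4 : x = 1 := by
    refine MulEquiv.ext fun p => ?_
    obtain ⟨a, b⟩ := p
    have e : ((a, b) : T × T) = MonoidHom.inl T T a * MonoidHom.inr T T b := by simp
    rw [e, map_mul, h1 _ ⟨a, rfl⟩, h2 _ ⟨b, rfl⟩]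
    rfl
  rw [h4, orderOf_one] at hx
  omega

section

variable {K : Type u} [Group K] [Finite K] {z : K} {P R : Subgroup K}

/-- an automorphism of order two fixing `z` is bad or conjugation by an element of `R` -/
theorem sheetE_cases (h : SheetE z P R) {L : Type v} [Group L] (φ : P →* L) (hφ : Function.Surjective φ)
    (hker : ∀ u : P, φ u = 1 ↔ (u : K) ∈ R) (hL : Inv3 L) {y : MulAut K} (hyy : y * y = 1) (hyz : y z = z) :
    Bad y ∨ ∃ r ∈ R, y = MulAut.conj r := by
  have hP : ∀ m ∈ P, y m ∈ P := fun m hm => map_P h.perf h.cen h.der y hyz hm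
  rcases eq_or_bad hyy hP φ hφ (fun m hm => (hker _).2 (map_R h hyz _ ((hker m).1 hm))) hL with h1 | h1
  · exact Or.inl h1
  · right
    refine h.aut y ?_ hyz fun m hm => ?_
    · intro g
      obtain ⟨g, k, rfl⟩ := g
      refine ⟨1, Subtype.ext ?_⟩
      show (y ^ k) ^ 2 ^ 1 = 1
      rw [pow_one, pow_two, ← (Commute.refl y).mul_zpow, hyy, one_zpow]
    · have h2 := h1 ⟨m, hm⟩
      have h3 : φ ((⟨m, hm⟩ : P)⁻¹ * ⟨y m, hP m hm⟩) = 1 := by
        rw [map_mul, map_inv, h2, inv_mul_cancel]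
      exact (hker _).1 h3

/-- **groups with a sheet of type (E) and `Inv3 (P / R)`** -/
theorem inv3_of_sheetE (h : SheetE z P R) {L : Type v} [Group L] (φ : P →* L) (hφ : Function.Surjective φ)
    (hker : ∀ u : P, φ u = 1 ↔ (u : K) ∈ R) (hL : Inv3 L) (hc : center K = ⊥)
    (hin : ∀ r ∈ R, r * r = 1 → r ≠ 1 → Bad (MulAut.conj r)) : Inv3 K := by
  intro x hx
  have hx2 : IsPGroup 2 (zpowers x) := IsPGroup.of_card (n := 1) (by rw [Nat.card_zpowers, hx, pow_one])
  obtain ⟨g, hg⟩ := exists_fix h.z1 h.syl hx2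
  refine bad_of_cx (g := g) ?_
  have hxx : x * x = 1 := by rw [← pow_two, ← hx, pow_orderOf_eq_one]
  have hyy : H459.Gallery.cx x g * H459.Gallery.cx x g = 1 := by
    unfold H459.Gallery.cx
    calc (MulAut.conj g)⁻¹ * x * MulAut.conj g * ((MulAut.conj g)⁻¹ * x * MulAut.conj g)
        = (MulAut.conj g)⁻¹ * (x * x) * MulAut.conj g := by group
      _ = 1 := by rw [hxx]; group
  rcases sheetE_cases h φ hφ hker hL hyy hg with h1 | ⟨r, hr, h1⟩
  · exact h1
  · rw [h1] at hyy ⊢
    refine hin r hr ?_ ?_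
    · apply Cfsg.Agent.H799.PiBS.conj_inj hc
      rw [map_mul, hyy, map_one]
    · rintro rfl
      rw [map_one] at h1
      have h2 : x = 1 := by
        have h3 : x = MulAut.conj g * H459.Gallery.cx x g * (MulAut.conj g)⁻¹ := by
          unfold H459.Gallery.cx
          group
        rw [h3, h1, mul_one, mul_inv_cancel]
      rw [h2, orderOf_one] at hx
      omega

/-- the 2-central involutions of a group with a sheet of type (E) -/
theorem bad_z (h : SheetE z P R) {L : Type v} [Group L] (φ : P →* L) (hφ : Function.Surjective φ)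
    (hker : ∀ u : P, φ u = 1 ↔ (u : K) ∈ R) (hL : Inv3 L) (hcL : center L = ⊥) : Bad (MulAut.conj z) := by
  obtain ⟨k, hk1, hk2, -⟩ := h.ytrick
  have hconj : IsConj (k * z * k⁻¹) z := (isConj_iff.2 ⟨k, rfl⟩).symm
  refine Bad.inner ?_ hconj
  have hsq : (k * z * k⁻¹) * (k * z * k⁻¹) = 1 := by
    calc (k * z * k⁻¹) * (k * z * k⁻¹) = k * (z * z) * k⁻¹ := by group
      _ = 1 := by rw [h.zz]; group
  have hP : ∀ m ∈ P, MulAut.conj (k * z * k⁻¹) m ∈ P := fun m hm =>
    P.mul_mem (P.mul_mem hk1 hm) (P.inv_mem hk1)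
  rcases eq_or_bad (x := MulAut.conj (k * z * k⁻¹)) (by rw [← map_mul, hsq, map_one]) hP φ hφ
    (fun m hm => (hker _).2 (h.Rn _ hk1 _ ((hker m).1 hm))) hL with h1 | h1
  · exact h1
  · exfalso
    apply hk2
    rw [← hker ⟨_, hk1⟩, ← mem_bot, ← hcL, mem_center_iff]
    intro l
    obtain ⟨m, rfl⟩ := hφ l
    have h2 := h1 m
    have e : (⟨MulAut.conj (k * z * k⁻¹) m, hP m m.2⟩ : P) =
        (⟨k * z * k⁻¹, hk1⟩ : P) * m * (⟨k * z * k⁻¹, hk1⟩ : P)⁻¹ := Subtype.ext rfl
    rw [e, map_mul, map_mul, map_inv] at h2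
    exact (mul_inv_eq_iff_eq_mul.1 h2).symm

end

end Cfsg.Agent.H443.PiS
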